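import Cfsg.Agent.H767.PU.Facts
import Cfsg.Agent.H199.PU.E2
import Cfsg.Agent.H104.PU.Gen

/-!
# S5258: (E4a) and (E4b) (helper936, task 4707)
-/

set_option autoImplicit false

namespace Cfsg.Agent.H936.PU

open Cfsg Cfsg.FusionSystem Cfsg.Agent.H756.PU Cfsg.Agent.H767.PU

universe u

section gen

variable {Ω : Type*} [Group Ω] {S E : Subgroup Ω} {p : ℕ} {Γ : Subgroup (MulAut E)}

theorem inv_conj (hE : Ess S E p Γ) {M : Subgroup Ω} (hM : Inv Γ M) {z : Ω} (hz : z ∈ E) {m : Ω} (hm : m ∈ M) :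
    z * m * z⁻¹ ∈ M := by
  have h1 : (MulAut.conj (⟨z, hz⟩ : E) : MulAut E) ∈ Γ :=
    hE.indu (Subgroup.subset_closure ⟨z, hE.E_le hz, fun x => rfl⟩)
  exact hM.2 _ h1 ⟨m, hM.1 hm⟩ hm

theorem apply_comm {γ : MulAut E} {a b : E} (h : ((a : E) : Ω) * ((γ⁻¹ b : E) : Ω) = (γ⁻¹ b : E) * (a : E)) :
    ((γ a : E) : Ω) * b = b * (γ a : E) := by
  have h1 : a * γ⁻¹ b = γ⁻¹ b * a := Subtype.ext h
  have h2 := congrArg γ h1
  rw [map_mul, map_mul, MulAut.apply_inv_self] at h2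
  exact congrArg Subtype.val h2

/-- the subgroup of commutators of an invariant subgroup with `E` is invariant -/
theorem inv_comG {B : Subgroup Ω} (hB : Inv Γ B) : Inv Γ (comG B E) := by
  have hle : comG B E ≤ E := by
    rw [comG, Subgroup.closure_le]
    rintro _ ⟨a, ha, m, hm, rfl⟩
    exact mul_mem (mul_mem (mul_mem (hB.1 ha) hm) (inv_mem (hB.1 ha))) (inv_mem hm)
  refine ⟨hle, fun γ hγ e he => ?_⟩
  have key : ∀ y ∈ comG B E, ∀ h : y ∈ E, ((γ ⟨y, h⟩ : E) : Ω) ∈ comG B E := by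
    intro y hy
    unfold comG at hy
    induction hy using Subgroup.closure_induction with
    | mem z hz =>
      obtain ⟨a, ha, m, hm, rfl⟩ := hz
      intro h
      have h1 : (⟨a * m * a⁻¹ * m⁻¹, h⟩ : E) = ⟨a, hB.1 ha⟩ * ⟨m, hm⟩ * ⟨a, hB.1 ha⟩⁻¹ * ⟨m, hm⟩⁻¹ := Subtype.ext rfl
      rw [h1, map_mul, map_mul, map_mul, map_inv, map_inv]
      exact Subgroup.subset_closure ⟨_, hB.2 γ hγ ⟨a, hB.1 ha⟩ ha, _, (γ ⟨m, hm⟩).2, rfl⟩
    | one =>
      intro h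
      have : (⟨1, h⟩ : E) = 1 := rfl
      rw [this, map_one]
      exact Subgroup.one_mem _
    | mul a b ha hb iha ihb =>
      intro h
      have h1 : a ∈ E := hle ha
      have h2 : b ∈ E := hle hb
      have : (⟨a * b, h⟩ : E) = ⟨a, h1⟩ * ⟨b, h2⟩ := rfl
      rw [this, map_mul]
      exact Subgroup.mul_mem _ (iha h1) (ihb h2)
    | inv a ha iha =>
      intro h
      have h1 : a ∈ E := hle ha
      have : (⟨a⁻¹, h⟩ : E) = ⟨a, h1⟩⁻¹ := rfl
      rw [this, map_inv]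
      exact Subgroup.inv_mem _ (iha h1)
  exact key e he e.2

end gen

/-- **(E4a)** -/
theorem stE4a (hCh : StChain.{u}) (hB : StBound.{u}) : StE4a.{u} := by
  intro K _ _ p n hK E Γ hE hV hEQ
  by_cases hI : Inv Γ (VV K)
  · apply le_antisymm hEQ
    have hQV : Com (Q2 K) (VV K) (VV K) := com_mono com_Q2_Q2 le_rfl VV_le_Q2 le_rfl
    exact hCh hE (VV K) (VV K) (VV K) hI hI hI le_rfl le_rfl (Q2 K) le_top
      (com_mono com_Q2_Q2 le_rfl hEQ le_rfl) hQV hQV (fun x hx m hm => com_Q2_VV_mem hx hm)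
  · exfalso
    obtain ⟨γ, hγ, e, he, hx⟩ : ∃ γ ∈ Γ, ∃ e : E, (e : UG K) ∈ VV K ∧ ((γ e : E) : UG K) ∉ VV K := by
      by_contra hcon
      push Not at hcon
      exact hI ⟨hV, hcon⟩
    obtain ⟨x, hxe⟩ : ∃ x : UG K, x = ((γ e : E) : UG K) := ⟨_, rfl⟩
    rw [← hxe] at hx
    have hxE : x ∈ E := hxe ▸ (γ e).2
    have hc : ∀ y ∈ E, x * y = y * x := by
      intro y hy
      rw [hxe]
      exact apply_comm (b := ⟨y, hy⟩) (com_Q2_VV_mem (hEQ (γ⁻¹ ⟨y, hy⟩).2) he).symm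
    have hEmem : ∀ y, y ∈ E ↔ y ∈ Q2 K ∧ x * y = y * x := by
      intro y
      constructor
      · intro hy
        exact ⟨hEQ hy, hc y hy⟩
      · rintro ⟨hy, hxy⟩
        refine hE.cent y trivial fun e' he' => ?_
        exact Q2_cent_abelian (hEQ hxE) hy (hEQ he') hx hxy (hc e' he')
    have hcard := card_cent_Q2 hK (hEQ hxE) hx E hEmem
    have h1 : Q2 K ≤ normalizerIn ⊤ E := by
      have key : ∀ v ∈ Q2 K, ∀ y ∈ E, v * y * v⁻¹ ∈ E := by
        intro v hv y hy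
        have h2 := mul_mem (hV (com_Q2_Q2 v hv y (hEQ hy))) hy
        rwa [inv_mul_cancel_right] at h2
      intro v hv
      refine ⟨trivial, Subgroup.mem_normalizer_iff.2 fun y => ⟨fun hy => key v hv y hy, fun hy => ?_⟩⟩
      have h2 := key v⁻¹ (inv_mem hv) _ hy
      have h3 : v⁻¹ * (v * y * v⁻¹) * v⁻¹⁻¹ = y := by group
      rwa [h3] at h2
    have h2 := hB hE
    have hfin : Finite (UG K) := by
      have := hE.fin
      exact Finite.of_equiv (⊤ : Subgroup (UG K)) Subgroup.topEquiv.toEquiv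
    have h3 : E.relIndex (Q2 K) ≤ E.relIndex (normalizerIn ⊤ E) :=
      Subgroup.relIndex_le_of_le_right h1
        (Subgroup.index_ne_zero_of_finite : (E.subgroupOf (normalizerIn ⊤ E)).index ≠ 0)
    have h4 : Nat.card E * E.relIndex (Q2 K) = Nat.card (Q2 K) := by
      rw [← Subgroup.relIndex_bot_left, ← Subgroup.relIndex_bot_left]
      exact Subgroup.relIndex_mul_relIndex _ _ _ bot_le hEQ
    have hq : 1 < p ^ n := one_lt_q hK
    rw [hcard, card_Q2 hK] at h4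
    have h5 : E.relIndex (Q2 K) = (p ^ n) ^ 3 := by
      apply Nat.eq_of_mul_eq_mul_left (pow_pos (by omega : 0 < p ^ n) 5)
      rw [h4]
      ring
    rw [h5] at h3
    rw [hcard] at h2
    have h6 : ((p ^ n) ^ 3) ^ 2 ≤ (p ^ n) ^ 5 := (Nat.pow_le_pow_left h3 2).trans h2
    rw [← pow_mul] at h6
    have h7 : (p ^ n) ^ 5 < (p ^ n) ^ (3 * 2) := Nat.pow_lt_pow_right hq (by norm_num)
    omega

/-- **(E4b)** -/
theorem stE4b (hCh : StChain.{u}) : StE4b.{u} := by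
  intro K _ _ p n hK E Γ hE hV hEQ hZ
  have hfin : Finite (UG K) := by
    have := hE.fin
    exact Finite.of_equiv (⊤ : Subgroup (UG K)) Subgroup.topEquiv.toEquiv
  have hZ2E : Z2 K ≤ E := Z2_le_VV.trans hV
  have hZE : ZS K ≤ E := ZS_le_Z2.trans hZ2E
  -- an automorphism moving `Z`
  obtain ⟨h, hhΓ, hh⟩ : ∃ h ∈ Γ, h ∉ H199.PU.stZ E := by
    by_contra hcon
    push Not at hcon
    exact hZ ⟨hZE, fun γ hγ e he => (hcon γ hγ e).1 he⟩
  have hmap : ∀ {g : MulAut E}, g ∉ H199.PU.stZ E → ∀ y : E, (y : UG K) ∈ Z2 K → ((g y : E) : UG K) ∈ Q2 K :=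
    fun hg y hy => H199.PU.map_Z2_le hK hZ2E hg y hy
  -- all `g(Z₂)` lie in `Q₂`
  have hall : ∀ g : MulAut E, ∀ y : E, (y : UG K) ∈ Z2 K → ((g y : E) : UG K) ∈ Q2 K := by
    intro g y hy
    by_contra hcon
    have hg : g ∈ H199.PU.stZ E := by
      by_contra hg
      exact hcon (hmap hg y hy)
    -- `h'(Z₂)` commutes with `g(Z₂)` for `h' ∉ Γ₀`
    have hcomm : ∀ h' : MulAut E, h' ∉ H199.PU.stZ E → ∀ w : E, (w : UG K) ∈ Z2 K →
        ((h' w : E) : UG K) ∈ YY K := by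
      intro h' hh' w hw
      have h1 : g⁻¹ * h' ∉ H199.PU.stZ E := fun h2 => hh' (by
        have h3 := mul_mem hg h2
        rwa [mul_inv_cancel_left] at h3)
      have h2 := hmap h1 w hw
      have h3 : ((h' w : E) : UG K) * ((g y : E) : UG K) = (g y : E) * (h' w : E) := by
        have h4 : (g⁻¹ * h') w * y = y * (g⁻¹ * h') w := Subtype.ext (com_Q2_VV_mem h2 (Z2_le_VV hy))
        have h5 := congrArg g h4
        rw [map_mul, map_mul, MulAut.mul_apply, MulAut.apply_inv_self] at h5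
        exact congrArg Subtype.val h5
      exact Q2_comm_mem_YY hcon (hmap hh' w hw) h3.symm
    have hhg : h * g ∉ H199.PU.stZ E := fun h1 => hh (by
      have h2 := mul_mem h1 (inv_mem hg)
      rwa [mul_inv_cancel_right] at h2)
    apply hh
    have h1 : h⁻¹ ∈ H199.PU.stZ E := by
      refine H199.PU.mem_stZ fun e he => ?_
      rw [inv_inv]
      obtain ⟨w, hw, hwe⟩ := H199.PU.exists_comm_Z2 hK hcon he
      have h2 : e = (⟨w, hZ2E hw⟩ : E) * g y * (⟨w, hZ2E hw⟩ : E)⁻¹ * (g y)⁻¹ := Subtype.ext hwe.symm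
      rw [h2, map_mul, map_mul, map_mul, map_inv, map_inv]
      exact com_YY_YY _ (hcomm h hh ⟨w, hZ2E hw⟩ hw) _ (hcomm (h * g) hhg y hy)
    have h2 := inv_mem h1
    rwa [inv_inv] at h2
  -- the hull of `Z₂`
  obtain ⟨M, hM⟩ : ∃ M, M = hull Γ (Z2 K) := ⟨_, rfl⟩
  have hMinv : Inv Γ M := hM ▸ H104.PU.inv_hull _
  have hZ2M : Z2 K ≤ M := hM ▸ H104.PU.le_hull hZ2E
  have hMQ : M ≤ Q2 K := by
    rw [hM, hull, Subgroup.closure_le]
    rintro _ ⟨γ, -, e, he, rfl⟩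
    exact hall γ e he
  have hMab : ∀ x ∈ M, ∀ y ∈ M, x * y = y * x := by
    have h1 : ∀ x ∈ M, ∀ γ ∈ Γ, ∀ e : E, (e : UG K) ∈ Z2 K → x * ((γ e : E) : UG K) = (γ e : E) * x := by
      intro x hx γ hγ e he
      have h2 := hMinv.2 γ⁻¹ (inv_mem hγ) ⟨x, hMinv.1 hx⟩ hx
      exact (apply_comm (b := ⟨x, hMinv.1 hx⟩) (com_Q2_VV_mem (hMQ h2) (Z2_le_VV he)).symm).symm
    intro x hx y hy
    rw [hM, hull] at hy
    induction hy using Subgroup.closure_induction with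
    | mem z hz =>
      obtain ⟨γ, hγ, e, he, rfl⟩ := hz
      exact h1 x hx γ hγ e he
    | one => rw [mul_one, one_mul]
    | mul a b _ _ iha ihb => rw [← mul_assoc, iha, mul_assoc, ihb, mul_assoc]
    | inv a _ iha => exact ((show Commute x a from iha).inv_right)
  have hYM : Com (YY K) E M := com_mono (com_symm com_top_YY) le_rfl le_top hZ2M
  by_cases hMV : M ≤ VV K
  · have h1 : Com (YY K) M M := by
      intro a ha m hm
      rw [com_Q2_VV_mem (YY_le_Q2 ha) (hMV hm), mul_inv_cancel_right, mul_inv_cancel]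
      exact one_mem _
    exact hCh hE M M M hMinv hMinv hMinv le_rfl le_rfl (YY K) le_top hYM h1 h1
      (fun a ha m hm => com_Q2_VV_mem (YY_le_Q2 ha) (hMV hm))
  obtain ⟨x, hxM, hxV⟩ : ∃ x ∈ M, x ∉ VV K := by
    by_contra hcon
    push Not at hcon
    exact hMV hcon
  obtain ⟨z, hzE, hz⟩ : ∃ z ∈ E, z ∉ Q2 K := by
    by_contra hcon
    push Not at hcon
    exact hEQ hcon
  have hxQ := hMQ hxM
  -- `x ∈ Y`
  have hxY : x ∈ YY K := by
    have h1 : z * x * z⁻¹ * x⁻¹ ∈ M := mul_mem (inv_conj hE hMinv hzE hxM) (inv_mem hxM)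
    obtain ⟨t, -, h3, h4⟩ := (Q2_comm_iff' hxQ (hMQ h1) hxV).1 (hMab x hxM _ h1)
    rw [comm_u1, mem_Q2.1 hxQ, zero_mul, sub_zero] at h3
    rw [comm_u2] at h4
    refine ⟨hxQ, ?_⟩
    by_contra h5
    have h6 : t = 0 := (mul_eq_zero.1 h4.symm).resolve_right h5
    rw [h6, zero_mul] at h3
    rcases mul_eq_zero.1 h3 with h7 | h7
    · exact hz h7
    · exact h5 h7
  -- `B = C_S(M)`
  obtain ⟨B, hB⟩ : ∃ B : Subgroup (UG K), B = Subgroup.centralizer (M : Set (UG K)) := ⟨_, rfl⟩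
  have hBmem : ∀ y, y ∈ B ↔ ∀ m ∈ M, m * y = y * m := by
    intro y
    rw [hB, Subgroup.mem_centralizer_iff]
    rfl
  have hBQ : B ≤ Q2 K := by
    intro y hy
    exact (cent_Z2 hK).1 fun w hw => ((hBmem y).1 hy w (hZ2M hw)).symm
  have hBx : ∀ y, y ∈ Q2 K → x * y = y * x → y ∈ B := by
    intro y hy hxy
    rw [hBmem]
    intro m hm
    exact Q2_cent_abelian hxQ (hMQ hm) hy hxV (hMab x hxM m hm) hxy
  have hBY : B ≤ YY K := by
    intro y hy
    obtain ⟨t, -, -, h4⟩ := (Q2_comm_iff' hxQ (hBQ hy) hxV).1 ((hBmem y).1 hy x hxM)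
    refine ⟨hBQ hy, ?_⟩
    rw [h4, hxY.2, mul_zero]
  have hMB : M ≤ B := fun m hm => (hBmem m).2 fun m' hm' => hMab m' hm' m hm
  have hBM : ∀ a ∈ B, ∀ m ∈ M, a * m = m * a := fun a ha m hm => ((hBmem a).1 ha m hm).symm
  have hBE : B ≤ E := by
    have h1 : Com B M M := by
      intro a ha m hm
      rw [hBM a ha m hm, mul_inv_cancel_right, mul_inv_cancel]
      exact one_mem _
    exact hCh hE M M M hMinv hMinv hMinv le_rfl le_rfl B le_top (com_mono hYM hBY le_rfl le_rfl) h1 h1 hBM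
  have hBinv : Inv Γ B := by
    refine ⟨hBE, fun γ hγ e he => ?_⟩
    rw [hBmem]
    intro m hm
    have h2 := hMinv.2 γ⁻¹ (inv_mem hγ) ⟨m, hMinv.1 hm⟩ hm
    exact (apply_comm (b := ⟨m, hMinv.1 hm⟩) (hBM _ he _ h2)).symm
  -- `[B, E]`
  have hB2 : comG B E ≤ Z2 K := by
    rw [comG, Subgroup.closure_le]
    rintro _ ⟨a, ha, m, -, rfl⟩
    exact com_symm com_top_YY a (hBY ha) m trivial
  have hZB2 : ZS K ≤ comG B E := by
    intro y hy
    obtain ⟨w, hw, rfl⟩ := H199.PU.exists_comm_Z2 hK hz hy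
    exact Subgroup.subset_closure ⟨w, hMB (hZ2M hw), z, hzE, rfl⟩
  have hYZ2 : ∀ a ∈ YY K, ∀ m ∈ Z2 K, a * m = m * a := fun a ha m hm => com_Q2_VV_mem (YY_le_Q2 ha) (Z2_le_VV hm)
  refine hCh hE (comG B E) (comG B E) B (inv_comG hBinv) (inv_comG hBinv) hBinv le_rfl
    (hB2.trans (hZ2M.trans hMB)) (YY K) le_top ?_ ?_ ?_ (fun a ha m hm => hYZ2 a ha m (hB2 hm))
  · exact com_mono hYM le_rfl le_rfl hMB
  · exact com_mono com_YY_YY le_rfl hBY hZB2
  · intro a ha m hm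
    rw [hYZ2 a ha m (hB2 hm), mul_inv_cancel_right, mul_inv_cancel]
    exact one_mem _

end Cfsg.Agent.H936.PU
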